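/-
Modular representations over an algebraically closed field (namespace `Cfsg.Agent.ModRep`).

Main results: `resField`, `isAlgClosed_res` (the residue field at `M`), `exists_scalar` (Schur),
`hom_eq_zero` (non-isomorphic simples), `trace_mul_unipotent`, `trace_eq_pPrime`,
`linearIndependent_trace` (traces of non-isomorphic simples are independent).
-/
import Cfsg.Agent.Lib.BrauerPairs.Residue
import Cfsg.Agent.EqLemmas

set_option autoImplicit false
set_option linter.unusedSectionVars false
set_option linter.style.haveILetI false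

namespace Cfsg.Agent.ModRep

open Cfsg Cfsg.Agent.BrauerPairs Representation

universe u v w

/-- The field structure on the residue ring at `M`. -/
@[reducible] noncomputable def resField {p : ℕ} {M : Ideal AlgInt} (hM : IsPModular p M) : Field (Res M) :=
  haveI := hM.2.1
  Ideal.Quotient.field M

theorem isAlgClosed_res {p : ℕ} {M : Ideal AlgInt} (hM : IsPModular p M) :
    letI := resField hM
    IsAlgClosed (Res M) := by
  letI := resField hM
  refine IsAlgClosed.of_exists_root _ fun f hf hirr => ?_
  obtain ⟨F, hF, hFdeg, hFm⟩ := Polynomial.lifts_and_natDegree_eq_and_monic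
    ((Polynomial.lifts_iff_coeff_lifts f).mpr fun n => Ideal.Quotient.mk_surjective (f.coeff n)) hf
  obtain ⟨z, hz⟩ := IsAlgClosed.exists_root (F.map (algebraMap AlgInt ℂ)) (by
    rw [Polynomial.degree_map_eq_of_injective Subtype.val_injective]
    intro h0
    have h1 : F.natDegree = 0 := Polynomial.natDegree_eq_of_degree_eq_some h0
    exact hirr.natDegree_pos.ne' (hFdeg ▸ h1))
  have hzI : IsIntegral AlgInt z := ⟨F, hFm, by rw [← Polynomial.eval_map]; exact hz⟩
  have hzI' : IsIntegral ℤ z := isIntegral_trans z hzI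
  refine ⟨Ideal.Quotient.mk M ⟨z, hzI'⟩, ?_⟩
  rw [← hF, Polynomial.eval_map, Polynomial.eval₂_at_apply]
  have h0 : F.eval (⟨z, hzI'⟩ : AlgInt) = 0 := by
    apply Subtype.val_injective
    show algebraMap AlgInt ℂ (F.eval (⟨z, hzI'⟩ : AlgInt)) = ((0 : AlgInt) : ℂ)
    rw [← Polynomial.eval₂_at_apply, ← Polynomial.eval_map]
    exact hz
  rw [h0, map_zero]

variable {k : Type u} [Field k] {G : Type v} [Group G]

section schur
variable {V W : Type w} [AddCommGroup V] [Module k V] [AddCommGroup W] [Module k W]

theorem exists_scalar [IsAlgClosed k] [FiniteDimensional k V] (ρ : Representation k G V)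
    [ρ.IsIrreducible] (f : V →ₗ[k] V) (hf : ∀ g v, f (ρ g v) = ρ g (f v)) :
    ∃ c : k, ∀ v, f v = c • v := by
  obtain ⟨c, hc⟩ := (IsIrreducible.algebraMap_intertwiningMap_bijective_of_isAlgClosed (ρ := ρ)).2 (f.intertwiningMap_of_isIntertwiningMap _ _ hf)
  refine ⟨c, fun v => ?_⟩
  have h := congrArg (fun F : IntertwiningMap ρ ρ => F v) hc
  exact h.symm

theorem hom_eq_zero {ρ : Representation k G V} {σ : Representation k G W} [ρ.IsIrreducible]
    [σ.IsIrreducible] (hne : IsEmpty (ρ.Equiv σ)) (f : V →ₗ[k] W)
    (hf : ∀ g v, f (ρ g v) = σ g (f v)) : f = 0 := by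
  have : f.intertwiningMap_of_isIntertwiningMap _ _ hf = (0 : IntertwiningMap ρ σ) :=
    Subsingleton.elim _ _
  exact congrArg IntertwiningMap.toLinearMap this

theorem trace_equiv [FiniteDimensional k V] {ρ : Representation k G V} {σ : Representation k G W}
    (e : ρ.Equiv σ) (g : G) : LinearMap.trace k V (ρ g) = LinearMap.trace k W (σ g) := by
  rw [← LinearMap.trace_conj' (ρ g) e.toLinearEquiv]
  congr 1
  refine LinearMap.ext fun v => ?_
  rw [LinearEquiv.conj_apply, LinearMap.comp_apply, LinearMap.comp_apply]
  show e.toLinearEquiv (ρ g (e.toLinearEquiv.symm v)) = σ g v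
  have h := LinearMap.congr_fun (e.toIntertwiningMap.isIntertwining' g) (e.toLinearEquiv.symm v)
  refine h.trans ?_
  show σ g (e.toLinearEquiv (e.toLinearEquiv.symm v)) = σ g v
  rw [LinearEquiv.apply_symm_apply]

end schur

/-- Multiplying by a commuting element of `p`-power order does not change traces in characteristic `p`. -/
theorem trace_mul_unipotent {p : ℕ} [CharP k p] (hp : p.Prime) {V : Type w} [AddCommGroup V] [Module k V]
    [FiniteDimensional k V] (ρ : Representation k G V) {u y : G} (h : Commute u y) {n : ℕ}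
    (hu : u ^ p ^ n = 1) : LinearMap.trace k V (ρ (u * y)) = LinearMap.trace k V (ρ y) := by
  obtain ⟨r, hr⟩ := (show Commute (ρ u - 1) (1 : Module.End k V) from Commute.one_right _)
    |>.exists_add_pow_prime_pow_eq hp n
  have hp0 : ((p : ℕ) : Module.End k V) = 0 := by
    rw [← map_natCast (algebraMap k (Module.End k V)), CharP.cast_eq_zero, map_zero]
  rw [sub_add_cancel, ← map_pow, hu, map_one, one_pow, hp0, zero_mul, zero_mul, zero_mul, add_zero,
    right_eq_add] at hr
  have hnil : IsNilpotent ((ρ u - 1) * ρ y) :=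
    Commute.isNilpotent_mul_right ((h.map ρ).sub_left (Commute.one_left _)) ⟨_, hr⟩
  have h0 := LinearMap.isNilpotent_trace_of_isNilpotent hnil
  rw [isNilpotent_iff_eq_zero, sub_mul, one_mul, ← map_mul, map_sub, sub_eq_zero] at h0
  exact h0

/-- In characteristic `p` a trace only depends on the `p'`-part. -/
theorem trace_eq_pPrime {p : ℕ} [CharP k p] (hp : p.Prime) {V : Type w} [AddCommGroup V] [Module k V]
    [FiniteDimensional k V] (ρ : Representation k G V) {g u y : G} (h : Commute u y) (hg : g = u * y)
    (hu : ∃ n, orderOf u = p ^ n) : LinearMap.trace k V (ρ g) = LinearMap.trace k V (ρ y) := by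
  obtain ⟨n, hn⟩ := hu
  rw [hg]
  exact trace_mul_unipotent hp ρ h (n := n) (by rw [← hn, pow_orderOf_eq_one])

/-- Frobenius–Schur: traces of pairwise non-isomorphic simple representations are independent. -/
theorem linearIndependent_trace [IsAlgClosed k] {ι : Type*} [Finite ι] (V : ι → Type w)
    [∀ i, AddCommGroup (V i)] [∀ i, Module k (V i)] [∀ i, FiniteDimensional k (V i)]
    (ρ : ∀ i, Representation k G (V i)) (hirr : ∀ i, (ρ i).IsIrreducible)
    (hne : ∀ i j, i ≠ j → IsEmpty ((ρ i).Equiv (ρ j))) :
    LinearIndependent k (fun i (g : G) => LinearMap.trace k (V i) (ρ i g)) := by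
  classical
  haveI := hirr
  have := Fintype.ofFinite ι
  rw [Fintype.linearIndependent_iff]
  intro c hc i
  let A := MonoidAlgebra k G
  let Mi := fun j => (ρ j).asModule
  obtain ⟨v₀, hv₀⟩ : ∃ v₀ : V i, v₀ ≠ 0 := by
    by_contra h
    push Not at h
    obtain ⟨a, b, hab⟩ := (IsSimpleModule.nontrivial A (Mi i)).exists_pair_ne
    exact hab ((h a).trans (h b).symm)
  obtain ⟨φ₀, hφ₀⟩ : ∃ φ : Module.Dual k (V i), φ v₀ ≠ 0 := by
    by_contra h
    push Not at h
    exact hv₀ ((Module.forall_dual_apply_eq_zero_iff k v₀).mp h)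
  -- a rank one map of trace one
  set a : Module.End k (V i) := ((φ₀ v₀)⁻¹ • φ₀).smulRight v₀ with ha
  have htr : LinearMap.trace k (V i) a = 1 := by
    rw [ha, LinearMap.trace_smulRight, LinearMap.smul_apply, smul_eq_mul, inv_mul_cancel₀ hφ₀]
  let F : (Π j, Mi j) → (Π j, Mi j) := fun m => Pi.single i (a (m i) : Mi i)
  have hcomp : ∀ (φ : Module.End A (Π j, Mi j)) (m : Π j, Mi j),
      φ (F m) = F (φ m) := by
    intro φ m
    have hjl : ∀ l j (x : Mi l), l ≠ j → φ (Pi.single l x) j = 0 := by
      intro l j x hlj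
      let f : Mi l →ₗ[A] Mi j := (LinearMap.proj j).comp (φ.comp (LinearMap.single A Mi l))
      have : f = 0 := by
        rcases LinearMap.bijective_or_eq_zero f with hb | h0
        · exfalso
          exact (hne l j hlj).false (Representation.IntertwiningMap.ofBijective
            ((Representation.IntertwiningMap.equivLinearMapAsModule (ρ l) (ρ j)).symm f) hb)
        · exact h0
      exact LinearMap.congr_fun this x
    obtain ⟨s, hs⟩ : ∃ s : k, ∀ x : Mi i, φ (Pi.single i x) i = (s • (show V i from x) : V i) := by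
      let f : Mi i →ₗ[A] Mi i := (LinearMap.proj i).comp (φ.comp (LinearMap.single A Mi i))
      obtain ⟨s, hs⟩ := exists_scalar (ρ i)
        ((Representation.IntertwiningMap.equivLinearMapAsModule (ρ i) (ρ i)).symm f).toLinearMap
        (fun g v => LinearMap.congr_fun
          (((Representation.IntertwiningMap.equivLinearMapAsModule (ρ i) (ρ i)).symm f).isIntertwining' g) v)
      exact ⟨s, fun x => hs x⟩
    have hsum : ∀ m : Π j, Mi j, φ m i = (s • (show V i from m i) : V i) := by
      intro m
      conv_lhs => rw [← Finset.univ_sum_single m, map_sum, Finset.sum_apply]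
      rw [Finset.sum_eq_single i (fun l _ hl => hjl l i _ hl) (fun h => absurd (Finset.mem_univ _) h)]
      exact hs _
    funext j
    by_cases hj : j = i
    · rw [hj, hsum, show F m i = a (m i) from Pi.single_eq_same _ _, show F (φ m) i = a (φ m i) from Pi.single_eq_same _ _, hsum]
      exact (map_smul a s (m i : V i)).symm
    · rw [show F (φ m) j = 0 from Pi.single_eq_of_ne hj _]
      show φ (Pi.single i _) j = 0
      exact hjl i j _ (Ne.symm hj)
  let FL : Module.End (Module.End A (Π j, Mi j)) (Π j, Mi j) :=
    { toFun := F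
      map_add' := fun m m' => by
        exact (congrArg (Pi.single (M := Mi) i) (map_add a _ _)).trans (Pi.single_add i _ _)
      map_smul' := fun φ m => (hcomp φ m).symm }
  let B : (Σ j, Fin (Module.finrank k (V j))) → (Π j, Mi j) :=
    fun jl => Pi.single jl.1 (Module.finBasis k (V jl.1) jl.2 : Mi jl.1)
  obtain ⟨r, hr⟩ := jacobson_density (R := A) FL (Finset.univ.image B)
  have hop : ∀ j, (ρ j).asAlgebraHom r = if h : j = i then h ▸ a else 0 := by
    intro j
    refine (Module.finBasis k (V j)).ext fun l => ?_
    have h := congrFun (hr (B ⟨j, l⟩) (Finset.mem_image_of_mem _ (Finset.mem_univ _))) j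
    change F (B ⟨j, l⟩) j = (r • B ⟨j, l⟩ : Π j, Mi j) j at h
    have e : (r • B ⟨j, l⟩ : Π j, Mi j) j = ((ρ j).asAlgebraHom r (Module.finBasis k (V j) l) : Mi j) := by
      show r • (Pi.single j (Module.finBasis k (V j) l : Mi j) : Π j, Mi j) j = _
      exact congrArg (fun y : Mi j => r • y) (Pi.single_eq_same j _)
    refine e.symm.trans (h.symm.trans ?_)
    by_cases hj : j = i
    · subst hj
      rw [dif_pos rfl]
      exact (Pi.single_eq_same j _).trans (congrArg a (Pi.single_eq_same j _))
    · rw [dif_neg hj]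
      exact Pi.single_eq_of_ne hj _
  have hlin0 : ∀ r : A, ∑ j, c j * LinearMap.trace k (V j) ((ρ j).asAlgebraHom r) = 0 := by
    intro r
    induction r using MonoidAlgebra.induction_linear with
    | zero => simp
    | add f g hf hg => simp [map_add, mul_add, Finset.sum_add_distrib, hf, hg]
    | single g t =>
      have hg := congrFun hc g
      simp only [Finset.sum_apply, Pi.smul_apply, smul_eq_mul, Pi.zero_apply] at hg
      simp only [Representation.asAlgebraHom_single, map_smul, smul_eq_mul, mul_left_comm (c _), ← Finset.mul_sum, hg, mul_zero]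
  have hlin := hlin0 r
  rw [Finset.sum_eq_single i (fun j _ hj => by rw [hop, dif_neg hj, map_zero, mul_zero])
    (fun h => absurd (Finset.mem_univ _) h), hop, dif_pos rfl, htr, mul_one] at hlin
  exact hlin

end Cfsg.Agent.ModRep
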