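/-
The augmentation ideal of a `p`-subgroup (namespace `Cfsg.Agent.ModRep`).

* `isNilpotent_op_of_isPGroup`: `∑ c u • (ρ u - 1)` is nilpotent for a `p`-group `R`;
* `isNilpotent_of_suppIn`: an element supported on a `p`-subgroup with coefficient sum `0` is nilpotent.
-/
import Cfsg.Agent.Lib.Perm.PermModule
import Cfsg.Agent.Lib.BrauerPairs.BlockIdem

set_option autoImplicit false
set_option linter.unusedSectionVars false

namespace Cfsg.Agent.ModRep

open Module

variable {k : Type*} [Field k] {p : ℕ} [Fact p.Prime] [CharP k p] {R : Type*} [Group R] [Fintype R]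

theorem isNilpotent_op_of_isPGroup (hR : IsPGroup p R) {V : Type*} [AddCommGroup V] [Module k V]
    [FiniteDimensional k V] (ρ : Representation k R V) (c : R → k) :
    IsNilpotent (∑ u, c u • (ρ u - 1) : Module.End k V) := by
  set T : Module.End k V := ∑ u, c u • (ρ u - 1) with hT
  -- the ascending chain of invariant subspaces
  let next : Submodule k V → Submodule k V := fun W => ⨅ u, W.comap (ρ u - 1)
  have hnext : ∀ W v, v ∈ next W ↔ ∀ u, ρ u v - v ∈ W := fun W v => by
    simp [next, Submodule.mem_iInf]
  let F : ℕ → Submodule k V := fun j => next^[j] ⊥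
  have hF : ∀ j, F (j + 1) = next (F j) := fun j => Function.iterate_succ_apply' next j ⊥
  have hmono : ∀ j, F j ≤ F (j + 1) := by
    intro j
    induction j with
    | zero => exact bot_le
    | succ j ih =>
      intro v hv
      rw [hF, hnext]
      rw [hF, hnext] at hv
      exact fun u => ih (hv u)
  have hinv : ∀ j u, ∀ v ∈ F j, ρ u v ∈ F j := by
    intro j u v hv
    cases j with
    | zero =>
      have : v = 0 := (Submodule.mem_bot k).mp hv
      rw [this, map_zero]
      exact Submodule.zero_mem _
    | succ i =>
      have h := (hnext _ _).mp (hF i ▸ hv) u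
      rw [← sub_add_cancel (ρ u v) v]
      exact Submodule.add_mem _ (hmono i h) hv
  have hstep : ∀ j, F j ≠ ⊤ → F j < F (j + 1) := by
    intro j hne
    refine lt_of_le_of_ne (hmono j) fun he => ?_
    let ρQ : Representation k R (V ⧸ F j) :=
      { toFun := fun u => (F j).mapQ (F j) (ρ u) fun v hv => hinv j u v hv
        map_one' := Submodule.linearMap_qext _ (LinearMap.ext fun x => by simp)
        map_mul' := fun a b => Submodule.linearMap_qext _ (LinearMap.ext fun x => by simp) }
    have hnt : (⊤ : Submodule k (V ⧸ F j)) ≠ ⊥ := by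
      intro h
      refine hne (eq_top_iff.mpr fun v _ => ?_)
      have : (Submodule.Quotient.mk v : V ⧸ F j) ∈ (⊥ : Submodule k (V ⧸ F j)) := h ▸ Submodule.mem_top
      exact (Submodule.Quotient.mk_eq_zero _).mp ((Submodule.mem_bot k).mp this)
    obtain ⟨w, -, hw0, hw⟩ := Perm.exists_fixed_ne_zero hR ρQ ⊤
      (fun g x _ => Submodule.mem_top) hnt
    obtain ⟨v, rfl⟩ := Submodule.Quotient.mk_surjective _ w
    refine hw0 ((Submodule.Quotient.mk_eq_zero _).mpr ?_)
    rw [he, hF, hnext]
    exact fun u => (Submodule.Quotient.eq (F j)).mp (hw u)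
  have htop : F (finrank k V) = ⊤ := by
    by_contra hne
    have hall : ∀ j ≤ finrank k V, F j ≠ ⊤ := fun j hj h => hne
      (top_le_iff.mp (h ▸ (monotone_nat_of_le_succ hmono) hj))
    have hrank : ∀ j ≤ finrank k V + 1, j ≤ finrank k (F j) := by
      intro j
      induction j with
      | zero => exact fun _ => Nat.zero_le _
      | succ j ih =>
        intro hj
        have h1 := ih (by omega)
        have h2 := Submodule.finrank_lt_finrank_of_lt (hstep j (hall j (by omega)))
        omega
    have h1 := hrank (finrank k V + 1) le_rfl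
    have h2 := Submodule.finrank_le (F (finrank k V + 1))
    omega
  have hT' : ∀ j, ∀ v ∈ F (j + 1), T v ∈ F j := by
    intro j v hv
    rw [hT, LinearMap.sum_apply]
    refine Submodule.sum_mem _ fun u _ => ?_
    rw [LinearMap.smul_apply]
    exact Submodule.smul_mem _ _ ((hnext _ _).mp (hF j ▸ hv) u)
  have hpow : ∀ j, ∀ v ∈ F j, (T ^ j) v = 0 := by
    intro j
    induction j with
    | zero => intro v hv; simpa using (Submodule.mem_bot k).mp hv
    | succ j ih =>
      intro v hv
      rw [pow_succ, Module.End.mul_apply]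
      exact ih _ (hT' j v hv)
  exact ⟨finrank k V, LinearMap.ext fun v => hpow _ v (htop ▸ Submodule.mem_top)⟩

/-- An element supported on a `p`-subgroup with coefficient sum zero is nilpotent. -/
theorem isNilpotent_of_suppIn {G : Type*} [Group G] [Fintype G] {P : Subgroup G} (hP : IsPGroup p P)
    (z : MonoidAlgebra k G) (hsupp : ∀ x, x ∉ P → z.coeff x = 0) (hsum : ∑ x, z.coeff x = 0) :
    IsNilpotent z := by
  classical
  have := Fintype.ofFinite P
  let A := MonoidAlgebra k G
  haveI : FiniteDimensional k A := inferInstance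
  let ρ : Representation k P A :=
    { toFun := fun u => LinearMap.mulLeft k (MonoidAlgebra.single (u : G) (1 : k))
      map_one' := LinearMap.ext fun x => by
        show MonoidAlgebra.single ((1 : P) : G) (1 : k) * x = x
        rw [OneMemClass.coe_one, ← MonoidAlgebra.one_def, one_mul]
      map_mul' := fun a b => LinearMap.ext fun x => by
        show MonoidAlgebra.single ((a * b : P) : G) (1 : k) * x =
          MonoidAlgebra.single (a : G) (1 : k) * (MonoidAlgebra.single (b : G) (1 : k) * x)
        rw [← mul_assoc, MonoidAlgebra.single_mul_single, mul_one, Subgroup.coe_mul] }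
  obtain ⟨n, hn⟩ := isNilpotent_op_of_isPGroup hP ρ fun u => z.coeff (u : G)
  have hz : z = ∑ u : P, z.coeff (u : G) •
      (MonoidAlgebra.single (u : G) (1 : k) - (1 : A)) := by
    have h1 : z = ∑ u : P, MonoidAlgebra.single (u : G) (z.coeff (u : G)) := by
      ext x
      rw [MonoidAlgebra.coeff_sum, Finsupp.finsetSum_apply]
      simp only [MonoidAlgebra.coeff_single, Finsupp.single_apply]
      by_cases hx : x ∈ P
      · rw [Finset.sum_eq_single ⟨x, hx⟩]
        · simp
        · exact fun u _ hu => if_neg fun h => hu (Subtype.ext h)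
        · simp
      · rw [hsupp x hx, Finset.sum_eq_zero fun (u : P) _ => if_neg fun h : (u : G) = x => hx (h ▸ u.2)]
    have h0 : ∑ u : P, z.coeff (u : G) = 0 := by
      rw [← hsum]
      rw [← Finset.sum_subtype (s := Finset.univ.filter fun x => x ∈ P) (fun x => by simp)
        (fun x => z.coeff x)]
      exact Finset.sum_subset (Finset.filter_subset _ _) fun x _ hx => hsupp x (by simpa using hx)
    simp only [smul_sub, Finset.sum_sub_distrib, ← Finset.sum_smul, h0, zero_smul, sub_zero,
      MonoidAlgebra.smul_single, smul_eq_mul, mul_one]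
    exact h1
  have hop : LinearMap.mulLeft k z = ∑ u : P, z.coeff (u : G) • (ρ u - 1) := by
    refine LinearMap.ext fun x => ?_
    rw [LinearMap.mulLeft_apply, LinearMap.sum_apply]
    conv_lhs => rw [hz, Finset.sum_mul]
    refine Finset.sum_congr rfl fun u _ => ?_
    rw [smul_mul_assoc, sub_mul, one_mul, LinearMap.smul_apply, LinearMap.sub_apply]
    rfl
  refine ⟨n, ?_⟩
  rw [← hop, LinearMap.pow_mulLeft] at hn
  have := LinearMap.congr_fun hn (1 : A)
  simpa using this

end Cfsg.Agent.ModRep
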