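/-
The traces of the simple modules as a basis of the functions on `p`-regular classes
(namespace `Cfsg.Agent.ModRep`).

* `trace_add`: the trace on an invariant subspace and on the quotient;
* `simpleTraces`: the traces of the simple representations;
* `trace_mul_mem_span`: `g ↦ tr (ρ g * E)`, `E` commuting with `ρ`, is in their span;
* `exists_span_indicator`: the indicators of the `p`-regular classes are in their span;
* `exists_basis`: their restrictions are a basis of the functions on the `p`-regular classes.
-/
import Cfsg.Agent.Lib.ModRep.Basic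
import Cfsg.Agent.Lib.Transfer.Residual
import Cfsg.Agent.Lib.SecondMain.Sections

set_option autoImplicit false
set_option linter.unusedSectionVars false

namespace Cfsg.Agent.ModRep

open Module

universe u v

variable {k : Type u} [Field k]

theorem trace_add {V : Type*} [AddCommGroup V] [Module k V] [FiniteDimensional k V]
    (f : Module.End k V) (W : Submodule k V) (hW : W ≤ W.comap f) :
    LinearMap.trace k V f = LinearMap.trace k W (f.restrict fun x hx => hW hx) +
      LinearMap.trace k (V ⧸ W) (W.mapQ W f hW) := by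
  obtain ⟨s, hs⟩ := LinearMap.exists_rightInverse_of_surjective W.mkQ W.range_mkQ
  have hmem : ∀ v, v - s (W.mkQ v) ∈ W := fun v => by
    refine (Submodule.Quotient.mk_eq_zero W).mp ?_
    show W.mkQ _ = 0
    rw [map_sub, show W.mkQ (s (W.mkQ v)) = W.mkQ v from LinearMap.congr_fun hs _, sub_self]
  let r : V →ₗ[k] W := (LinearMap.id - s.comp W.mkQ).codRestrict W hmem
  have hid : f = (f.comp W.subtype).comp r + (f.comp s).comp W.mkQ := by
    refine LinearMap.ext fun v => ?_
    simp only [LinearMap.add_apply, LinearMap.comp_apply]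
    rw [← map_add]
    congr 1
    show v = (v - s (W.mkQ v)) + s (W.mkQ v)
    rw [sub_add_cancel]
  conv_lhs => rw [hid]
  rw [map_add, LinearMap.trace_comp_comm', LinearMap.trace_comp_comm' W.mkQ (f.comp s)]
  congr 2
  · refine LinearMap.ext fun w => Subtype.ext ?_
    show f w - s (W.mkQ (f w)) = f w
    rw [show W.mkQ (f (w : V)) = 0 from (Submodule.Quotient.mk_eq_zero W).mpr (hW w.2), map_zero,
      sub_zero]
  · refine Submodule.linearMap_qext _ (LinearMap.ext fun v => ?_)
    simp only [LinearMap.comp_apply, Submodule.mapQ_apply, Submodule.mkQ_apply]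
    refine (Submodule.Quotient.eq W).mpr ?_
    rw [← map_sub]
    refine hW ?_
    rw [← neg_sub]
    exact W.neg_mem (hmem v)

variable {G : Type v} [Group G]

/-- The traces of the simple representations of `G` over `k`. -/
def simpleTraces (k : Type u) [Field k] (G : Type v) [Group G] : Set (G → k) :=
  {f | ∃ (n : ℕ) (ρ : Representation k G (Fin n → k)), ρ.IsIrreducible ∧
    ∀ g, f g = LinearMap.trace k (Fin n → k) (ρ g)}

theorem mem_simpleTraces {V : Type*} [AddCommGroup V] [Module k V] [FiniteDimensional k V]
    (ρ : Representation k G V) (h : ρ.IsIrreducible) :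
    (fun g => LinearMap.trace k V (ρ g)) ∈ simpleTraces k G := by
  let e := (Module.finBasis k V).equivFun
  let σ : Representation k G (Fin (finrank k V) → k) := (e.conjRingEquiv.toMonoidHom).comp ρ
  have hσ : ∀ g, σ g = e.conj (ρ g) := fun g => rfl
  refine ⟨_, σ, ?_, fun g => by rw [hσ, LinearMap.trace_conj']⟩
  refine (OrderIso.isSimpleOrder_iff (β := Subrepresentation σ) ?_).1 h
  exact
  { toFun := fun W => ⟨W.toSubmodule.map e.toLinearMap, fun g _ hv => by
      obtain ⟨v, hv, rfl⟩ := hv
      exact ⟨ρ g v, W.apply_mem_toSubmodule g hv, by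
        rw [hσ, LinearEquiv.conj_apply_apply]; simp⟩⟩
    invFun := fun W => ⟨W.toSubmodule.comap e.toLinearMap, fun g v hv => by
      show e (ρ g v) ∈ W.toSubmodule
      have := W.apply_mem_toSubmodule g (show e v ∈ W.toSubmodule from hv)
      rw [hσ, LinearEquiv.conj_apply_apply] at this
      simpa using this⟩
    left_inv := fun W => Subrepresentation.toSubmodule_injective
      (Submodule.comap_map_eq_of_injective e.injective _)
    right_inv := fun W => Subrepresentation.toSubmodule_injective
      (Submodule.map_comap_eq_of_surjective e.surjective _)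
    map_rel_iff' := fun {W W'} => Submodule.map_le_map_iff_of_injective e.injective _ _ }

theorem linearIndepOn_simpleTraces [IsAlgClosed k] : LinearIndepOn k id (simpleTraces k G) := by
  refine linearIndepOn_of_finite _ fun t ht hfin => ?_
  have := hfin.to_subtype
  choose n ρ hirr hf using fun f : t => ht f.2
  have h := linearIndependent_trace (fun f : t => Fin (n f) → k) ρ hirr fun a b hne => ⟨fun e =>
    hne (Subtype.ext (funext fun g => by rw [hf a g, hf b g]; exact trace_equiv e g))⟩
  show LinearIndependent k fun f : t => (f : G → k)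
  convert h using 2
  exact funext (hf _)

theorem finite_simpleTraces [IsAlgClosed k] [Finite G] : (simpleTraces k G).Finite :=
  (linearIndepOn_simpleTraces (k := k) (G := G)).linearIndependent.setFinite

theorem simpleTraces_class {f : G → k} (hf : f ∈ simpleTraces k G) (a b : G) :
    f (a * b * a⁻¹) = f b := by
  obtain ⟨n, ρ, -, h⟩ := hf
  rw [h, h, map_mul, LinearMap.trace_mul_comm, ← map_mul, inv_mul_cancel_left]

theorem simpleTraces_comp {G' : Type*} [Group G'] {f : G → k} (hf : f ∈ simpleTraces k G)
    (α : G' ≃* G) : (fun g => f (α g)) ∈ simpleTraces k G' := by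
  obtain ⟨n, ρ, hirr, h⟩ := hf
  refine ⟨n, ρ.comp α.toMonoidHom, ?_, fun g => h (α g)⟩
  refine (OrderIso.isSimpleOrder_iff (β := Subrepresentation (ρ.comp α.toMonoidHom)) ?_).1 hirr
  exact
  { toFun := fun W => ⟨W.toSubmodule, fun g _ hv => W.apply_mem_toSubmodule (α g) hv⟩
    invFun := fun W => ⟨W.toSubmodule, fun g v hv => by
      obtain ⟨g', rfl⟩ := α.surjective g
      exact W.apply_mem_toSubmodule g' hv⟩
    left_inv := fun W => rfl
    right_inv := fun W => rfl
    map_rel_iff' := Iff.rfl }

/-- The trace against a commuting endomorphism is in the span of the simple traces. -/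
theorem trace_mul_mem_span [IsAlgClosed k] {V : Type*} [AddCommGroup V] [Module k V]
    [FiniteDimensional k V] (ρ : Representation k G V) (E : Module.End k V)
    (hE : ∀ g, Commute E (ρ g)) :
    (fun g => LinearMap.trace k V (ρ g * E)) ∈ Submodule.span k (simpleTraces k G) := by
  induction hn : finrank k V using Nat.strong_induction_on generalizing V with
  | _ n ih =>
    subst hn
    by_cases hW : ∃ W : Submodule k V, W ≠ ⊥ ∧ W ≠ ⊤ ∧ (∀ g, W ≤ W.comap (ρ g)) ∧ W ≤ W.comap E
    · obtain ⟨W, hb, ht, hρ, hEW⟩ := hW
      let ρW : Representation k G W :=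
        { toFun := fun g => (ρ g).restrict fun x hx => hρ g hx
          map_one' := LinearMap.ext fun x => Subtype.ext (by simp)
          map_mul' := fun a b => LinearMap.ext fun x => Subtype.ext (by simp) }
      let ρQ : Representation k G (V ⧸ W) :=
        { toFun := fun g => W.mapQ W (ρ g) (hρ g)
          map_one' := Submodule.linearMap_qext _ (LinearMap.ext fun x => by simp)
          map_mul' := fun a b => Submodule.linearMap_qext _ (LinearMap.ext fun x => by simp) }
      let EW : Module.End k W := E.restrict fun x hx => hEW hx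
      let EQ : Module.End k (V ⧸ W) := W.mapQ W E hEW
      have h1 := ih _ (Submodule.finrank_lt ht) ρW EW
        (fun g => LinearMap.ext fun x => Subtype.ext (LinearMap.congr_fun (hE g) x)) rfl
      have h2 := ih _ (by
        have := Submodule.finrank_quotient_add_finrank W
        have : finrank k W ≠ 0 := fun h0 => hb (Submodule.finrank_eq_zero.mp h0)
        omega) ρQ EQ
        (fun g => Submodule.linearMap_qext _ (LinearMap.ext fun x =>
          congrArg W.mkQ (LinearMap.congr_fun (hE g) x))) rfl
      convert Submodule.add_mem _ h1 h2 using 1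
      funext g
      have hle : W ≤ W.comap (ρ g * E) := fun x hx => hρ g (hEW hx)
      rw [trace_add _ W hle, Pi.add_apply]
      congr 2
      exact Submodule.linearMap_qext _ (LinearMap.ext fun x => rfl)
    push Not at hW
    by_cases hz : finrank k V = 0
    · have : Subsingleton V := Module.finrank_zero_iff.mp hz
      convert (Submodule.span k (simpleTraces k G)).zero_mem using 1
      funext g
      rw [Pi.zero_apply, show ρ g * E = 0 from LinearMap.ext fun x => Subsingleton.elim _ _, map_zero]
    have : Nontrivial V := Module.nontrivial_of_finrank_pos (R := k) (Nat.pos_of_ne_zero hz)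
    obtain ⟨c, hc⟩ := Module.End.exists_eigenvalue E
    have htop : Module.End.eigenspace E c = ⊤ := by
      by_contra hne
      refine hW _ hc hne (fun g x hx => ?_) ?_
      · rw [Submodule.mem_comap, Module.End.mem_eigenspace_iff]
        have h3 : E (ρ g x) = ρ g (E x) := LinearMap.congr_fun (hE g) x
        rw [h3, Module.End.mem_eigenspace_iff.mp hx, map_smul]
      · intro x hx
        rw [Submodule.mem_comap, Module.End.mem_eigenspace_iff.mp hx]
        exact Submodule.smul_mem _ c hx
    have hEc : ∀ x, E x = c • x := fun x =>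
      Module.End.mem_eigenspace_iff.mp (htop ▸ Submodule.mem_top)
    have hirr : ρ.IsIrreducible := by
      refine @IsSimpleOrder.mk _ _ _ ⟨⟨⊥, ⊤, fun he =>
        bot_ne_top (congrArg Subrepresentation.toSubmodule he)⟩⟩ fun W => ?_
      by_contra hcon
      push Not at hcon
      refine hW W.toSubmodule ?_ ?_ (fun g x hx => W.apply_mem_toSubmodule g hx) ?_
      · exact fun h => hcon.1 (Subrepresentation.toSubmodule_injective h)
      · exact fun h => hcon.2 (Subrepresentation.toSubmodule_injective h)
      · intro x hx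
        rw [Submodule.mem_comap, hEc]
        exact W.toSubmodule.smul_mem c hx
    have h3 : (fun g => LinearMap.trace k V (ρ g * E)) = c • fun g => LinearMap.trace k V (ρ g) := by
      funext g
      rw [show ρ g * E = c • ρ g from LinearMap.ext fun x => by
        rw [Module.End.mul_apply, hEc, map_smul, LinearMap.smul_apply], map_smul, Pi.smul_apply]
    rw [h3]
    exact Submodule.smul_mem _ c (Submodule.subset_span (mem_simpleTraces ρ hirr))

variable {p : ℕ} [Fact p.Prime] [CharP k p] [Finite G]

theorem simpleTraces_pPrime {f : G → k} (hf : f ∈ simpleTraces k G) {u y : G} (h : Commute u y)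
    (hu : ∃ n, orderOf u = p ^ n) : f (u * y) = f y := by
  obtain ⟨n, ρ, -, hft⟩ := hf
  rw [hft, hft]
  exact trace_eq_pPrime (Fact.out : p.Prime) ρ h rfl hu

open scoped Classical in
/-- The indicators of the `p`-regular classes are in the span. -/
theorem exists_span_indicator [IsAlgClosed k] {w : G} (hw : ¬ p ∣ orderOf w) :
    ∃ f ∈ Submodule.span k (simpleTraces k G), ∃ c : k, c ≠ 0 ∧
      ∀ z, ¬ p ∣ orderOf z → f z = if IsConj z w then c else 0 := by
  have := Fintype.ofFinite G
  set C := Subgroup.centralizer ({w} : Set G) with hC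
  obtain ⟨Q⟩ : Nonempty (Sylow p C) := Sylow.nonempty
  set P : Subgroup G := (Q : Subgroup C).map C.subtype with hP
  have hPp : IsPGroup p P := Q.2.map _
  have hPC : P ≤ C := Subgroup.map_subtype_le _
  have hPw : ∀ u ∈ P, Commute u w := fun u hu =>
    ((Subgroup.mem_centralizer_iff.mp (hPC hu)) w rfl).symm
  have := Fintype.ofFinite (G ⧸ P)
  let L : G → (G ⧸ P → G ⧸ P) := fun g q => g • q
  let R : G ⧸ P → G ⧸ P := fun q => Quotient.liftOn' q (fun x => QuotientGroup.mk (x * w⁻¹)) fun a b hab => by
    rw [QuotientGroup.leftRel_apply] at hab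
    refine QuotientGroup.eq.mpr ?_
    rw [mul_inv_rev, inv_inv, show w * a⁻¹ * (b * w⁻¹) = w * (a⁻¹ * b) * w⁻¹ by group,
      ← (hPw _ hab).eq, mul_inv_cancel_right]
    exact hab
  have hR : ∀ (g : G) (q : G ⧸ P), R (g • q) = g • R q := fun g q => by
    induction q using QuotientGroup.induction_on with
    | H x => exact congrArg QuotientGroup.mk (mul_assoc g x w⁻¹)
  let V := G ⧸ P → k
  let ρ : Representation k G V :=
    { toFun := fun g => LinearMap.funLeft k k (L g⁻¹)
      map_one' := LinearMap.ext fun F => funext fun q => by simp [L, LinearMap.funLeft_apply]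
      map_mul' := fun a b => LinearMap.ext fun F => funext fun q => by
        simp [L, LinearMap.funLeft_apply, mul_smul] }
  let E : Module.End k V := LinearMap.funLeft k k R
  have hcomm : ∀ g, Commute E (ρ g) := fun g => LinearMap.ext fun F => funext fun q => by
    show F (g⁻¹ • R q) = F (R (g⁻¹ • q))
    rw [hR]
  have hspan := trace_mul_mem_span ρ E hcomm
  have htr : ∀ z, LinearMap.trace k V (ρ z * E) =
      ((Finset.univ.filter fun q : G ⧸ P => R (z⁻¹ • q) = q).card : k) := by
    intro z
    rw [LinearMap.trace_eq_matrix_trace k (Pi.basisFun k (G ⧸ P)), Matrix.trace,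
      Finset.card_filter, Nat.cast_sum]
    refine Finset.sum_congr rfl fun q _ => ?_
    rw [Matrix.diag_apply, LinearMap.toMatrix_apply, Pi.basisFun_repr, Pi.basisFun_apply]
    show (Pi.single q (1 : k) : G ⧸ P → k) (R (z⁻¹ • q)) = _
    rw [Pi.single_apply, Nat.cast_ite, Nat.cast_one, Nat.cast_zero]
  have hfix : ∀ z x : G, ¬ p ∣ orderOf z →
      (R (z⁻¹ • (QuotientGroup.mk x : G ⧸ P)) = QuotientGroup.mk x ↔ x⁻¹ * z⁻¹ * x = w) := by
    intro z x hz
    show (QuotientGroup.mk (z⁻¹ * x * w⁻¹) : G ⧸ P) = QuotientGroup.mk x ↔ _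
    constructor
    · intro h
      have hu : x⁻¹ * z⁻¹ * x * w⁻¹ ∈ P := by
        have := QuotientGroup.eq.mp h.symm
        rwa [← mul_assoc, ← mul_assoc] at this
      set u := x⁻¹ * z⁻¹ * x * w⁻¹ with hu'
      obtain ⟨j, hj⟩ := IsPGroup.iff_orderOf.mp hPp ⟨u, hu⟩
      rw [← Subgroup.orderOf_coe] at hj
      have h1 := SecondMain.pPart_unique (p := p) (x := u) (y := w) (x' := 1)
        (y' := x⁻¹ * z⁻¹ * x) ⟨j, hj⟩ ⟨0, by simp⟩ hw (by
          have := SecondMain.orderOf_conj x⁻¹ z⁻¹
          rw [inv_inv] at this
          rwa [this, orderOf_inv]) (hPw u hu) (Commute.one_left _)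
        (by rw [hu', inv_mul_cancel_right, one_mul])
      exact h1.2.symm
    · intro h
      refine QuotientGroup.eq.mpr ?_
      rw [show (z⁻¹ * x * w⁻¹)⁻¹ * x = w * (x⁻¹ * z⁻¹ * x)⁻¹ by group, h, mul_inv_cancel]
      exact P.one_mem
  have hval : LinearMap.trace k V (ρ w⁻¹ * E) = ((Q : Subgroup C).index : k) := by
    rw [htr, ← Fintype.card_subtype, ← Nat.card_eq_fintype_card, inv_inv]
    congr 1
    let φ : C ⧸ (Q : Subgroup C) → {q : G ⧸ P // R (w • q) = q} := fun c =>
      Quotient.liftOn' c (fun c => ⟨QuotientGroup.mk (c : G), by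
        have h := (hfix w⁻¹ c (by rwa [orderOf_inv])).mpr (by
          rw [inv_inv, mul_assoc, Subgroup.mem_centralizer_iff.mp c.2 w rfl, inv_mul_cancel_left])
        rwa [inv_inv] at h⟩)
        fun a b hab => Subtype.ext (QuotientGroup.eq.mpr
          ⟨a⁻¹ * b, (QuotientGroup.leftRel_apply.mp hab), by simp⟩)
    refine (Nat.card_eq_of_bijective φ ⟨fun a b h => ?_, fun q => ?_⟩).symm
    · induction a using QuotientGroup.induction_on with
      | H a =>
        induction b using QuotientGroup.induction_on with
        | H b =>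
          obtain ⟨c, hc, hce⟩ := QuotientGroup.eq.mp (congrArg Subtype.val h)
          refine QuotientGroup.eq.mpr ?_
          rwa [← C.subtype_injective (hce.trans (by simp) : C.subtype c = C.subtype (a⁻¹ * b))]
    · obtain ⟨q, hq⟩ := q
      induction q using QuotientGroup.induction_on with
      | H x =>
        have h1 := (hfix w⁻¹ x (by rwa [orderOf_inv])).mp (by rwa [inv_inv])
        rw [inv_inv] at h1
        refine ⟨QuotientGroup.mk ⟨x, Subgroup.mem_centralizer_iff.mpr fun u hu => ?_⟩, rfl⟩
        rw [Set.mem_singleton_iff.mp hu]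
        conv_rhs => rw [← h1]
        group
  have hzero : ∀ z, ¬ p ∣ orderOf z → ¬ IsConj z w⁻¹ → LinearMap.trace k V (ρ z * E) = 0 := by
    intro z hz hne
    rw [htr, Finset.filter_false_of_mem, Finset.card_empty, Nat.cast_zero]
    intro q _
    induction q using QuotientGroup.induction_on with
    | H x =>
      intro h
      refine hne (isConj_iff.mpr ⟨x⁻¹, ?_⟩)
      have h1 := congrArg Inv.inv ((hfix z x hz).mp h)
      rw [← h1]
      group
  -- replace `w` by `w⁻¹`
  refine ⟨fun z => LinearMap.trace k V (ρ z⁻¹ * E), ?_, ((Q : Subgroup C).index : k), ?_, fun z hz => ?_⟩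
  · let T : (G → k) →ₗ[k] (G → k) := LinearMap.funLeft k k Inv.inv
    have hle : (Submodule.span k (simpleTraces k G)).map T ≤ Submodule.span k (simpleTraces k G) := by
      rw [Submodule.map_span, Submodule.span_le]
      rintro _ ⟨f, ⟨n, ρ', hirr, hf⟩, rfl⟩
      have h4 := trace_mul_mem_span ρ'.dual 1 (fun g => Commute.one_left _)
      show T f ∈ Submodule.span k (simpleTraces k G)
      convert h4 using 1
      funext g
      rw [mul_one]
      show f g⁻¹ = _
      rw [hf, Representation.dual_apply]
      exact (LinearMap.trace_transpose' (ρ' g⁻¹)).symm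
    exact hle ⟨_, hspan, rfl⟩
  · rw [Ne, CharP.cast_eq_zero_iff k p]
    exact Q.not_dvd_index
  · by_cases h : IsConj z w
    · rw [if_pos h, ← hval]
      obtain ⟨c, hc⟩ := isConj_iff.mp h
      have h2 : w⁻¹ = c * z⁻¹ * c⁻¹ := by rw [← hc]; group
      show LinearMap.trace k V (ρ z⁻¹ * E) = _
      rw [h2, map_mul ρ, map_mul ρ, mul_assoc (ρ c * ρ z⁻¹), ← (hcomm c⁻¹).eq,
        ← mul_assoc, LinearMap.trace_mul_cycle, ← mul_assoc, ← map_mul ρ,
        inv_mul_cancel, map_one, one_mul]
    · rw [if_neg h]
      refine hzero z⁻¹ (by rwa [orderOf_inv]) fun h' => h ?_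
      obtain ⟨c, hc⟩ := isConj_iff.mp h'
      refine isConj_iff.mpr ⟨c, ?_⟩
      have := congrArg Inv.inv hc
      simpa [mul_assoc] using this

omit [Fact p.Prime] [CharP k p] in
/-- The `p`-regular classes. -/
def RegClass (p : ℕ) (G : Type v) [Group G] : Type v :=
  {c : ConjClasses G // ¬ p ∣ orderOf (Quotient.out c)}

noncomputable instance [Finite G] : Finite (RegClass p G) := Subtype.finite

/-- A representative. -/
noncomputable def RegClass.rep (c : RegClass p G) : G := Quotient.out c.1

theorem RegClass.rep_regular (c : RegClass p G) : ¬ p ∣ orderOf c.rep := c.2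

theorem RegClass.mk_rep (c : RegClass p G) : ConjClasses.mk c.rep = c.1 := Quotient.out_eq c.1

theorem RegClass.ext_of_isConj {c d : RegClass p G} (h : IsConj c.rep d.rep) : c = d :=
  Subtype.ext (by rw [← c.mk_rep, ← d.mk_rep, ConjClasses.mk_eq_mk_iff_isConj.mpr h])

theorem RegClass.exists_rep {z : G} (hz : ¬ p ∣ orderOf z) :
    ∃ c : RegClass p G, IsConj z c.rep := by
  have h : IsConj z (Quotient.out (ConjClasses.mk z)) :=
    ConjClasses.mk_eq_mk_iff_isConj.mp (Quotient.out_eq (ConjClasses.mk z)).symm
  obtain ⟨c, hc⟩ := isConj_iff.mp h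
  exact ⟨⟨ConjClasses.mk z, by rwa [← hc, SecondMain.orderOf_conj]⟩, h⟩

/-- The restrictions of the simple traces are a basis of the functions on the regular classes. -/
theorem exists_basis [IsAlgClosed k] :
    ∃ b : Basis (simpleTraces k G) k (RegClass p G → k), ∀ f c, b f c = (f : G → k) c.rep := by
  classical
  let r : (G → k) →ₗ[k] (RegClass p G → k) := LinearMap.funLeft k k RegClass.rep
  let S := simpleTraces k G
  have hcls : ∀ f ∈ Submodule.span k S,
      (∀ a b : G, f (a * b * a⁻¹) = f b) ∧
        ∀ u y : G, Commute u y → (∃ n, orderOf u = p ^ n) → f (u * y) = f y := by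
    intro f hf
    induction hf using Submodule.span_induction with
    | mem f hf => exact ⟨simpleTraces_class hf, fun u y h hu => simpleTraces_pPrime hf h hu⟩
    | zero => simp
    | add f g _ _ hf hg => exact ⟨fun a b => by simp [hf.1, hg.1], fun u y h hu => by simp [hf.2 u y h hu, hg.2 u y h hu]⟩
    | smul a f _ hf => exact ⟨fun x y => by simp [hf.1], fun u y h hu => by simp [hf.2 u y h hu]⟩
  have hdisj : Disjoint (Submodule.span k (Set.range (Subtype.val : S → G → k))) (LinearMap.ker r) := by
    rw [Subtype.range_coe_subtype, Set.setOf_mem_eq, Submodule.disjoint_def]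
    intro f hf h0
    funext g
    obtain ⟨u, y, rfl, hu, hy, hk, hco⟩ := Transfer.exists_pPart_mul (p := p) g
    have hcomm : Commute u y := by
      obtain ⟨i, hi⟩ := Subgroup.mem_zpowers_iff.mp hu
      obtain ⟨j, hj⟩ := Subgroup.mem_zpowers_iff.mp hy
      have h := (Commute.refl (u * y)).zpow_zpow i j
      rwa [hi, hj] at h
    rw [(hcls f hf).2 u y hcomm hk, Pi.zero_apply]
    obtain ⟨c, hc⟩ := RegClass.exists_rep (p := p)
      (((Fact.out : p.Prime).coprime_iff_not_dvd).mp hco.symm)
    obtain ⟨a, ha⟩ := isConj_iff.mp hc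
    rw [← (hcls f hf).1 a y, ha]
    exact congrFun h0 c
  have hli : LinearIndependent k fun f : S => r (f : G → k) :=
    (linearIndepOn_simpleTraces (k := k) (G := G)).linearIndependent.map hdisj
  have hsp : ⊤ ≤ Submodule.span k (Set.range fun f : S => r (f : G → k)) := by
    rw [← (Pi.basisFun k (RegClass p G)).span_eq, Submodule.span_le]
    rintro _ ⟨c, rfl⟩
    obtain ⟨f, hf, a, ha, hval⟩ := exists_span_indicator (k := k) c.rep_regular
    have hmem : r f ∈ Submodule.span k (Set.range fun f : S => r (f : G → k)) := by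
      have : r f ∈ (Submodule.span k S).map r := ⟨f, hf, rfl⟩
      rw [Submodule.map_span] at this
      rwa [show r '' S = Set.range fun f : S => r (f : G → k) from Set.image_eq_range _ _] at this
    have e : Pi.basisFun k (RegClass p G) c = a⁻¹ • r f := by
      funext d
      rw [Pi.basisFun_apply, Pi.smul_apply, smul_eq_mul]
      show _ = a⁻¹ * f d.rep
      rw [hval _ d.rep_regular, Pi.single_apply]
      by_cases hd : d = c
      · rw [if_pos hd, if_pos (hd ▸ IsConj.refl _), inv_mul_cancel₀ ha]
      · rw [if_neg hd, if_neg fun h => hd (RegClass.ext_of_isConj h), mul_zero]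
    rw [e]
    exact Submodule.smul_mem _ _ hmem
  exact ⟨Basis.mk hli hsp, fun f c => by rw [Basis.mk_apply]; rfl⟩

end Cfsg.Agent.ModRep
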