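/-
Traces of automorphisms on block parts of the functions on `p`-regular classes
(namespace `Cfsg.Agent.ModRep`).

* `trace_perm_idem`: over a local ring the trace of a permutation times a commuting idempotent that is
  diagonal modulo the maximal ideal is a natural number;
* `colSum_fixed_nat`: for a set `V` of irreducible characters with integral idempotent and an
  automorphism `α` keeping the column sums of `V`, the number
  `|C|⁻¹ ∑_{y regular} colSum V (α y) y` is a natural number.
-/
import Cfsg.Agent.Lib.ModRep.RegBasis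
import Cfsg.Agent.Lib.SecondMain.Columns

set_option autoImplicit false
set_option linter.unusedSectionVars false

open scoped ComplexConjugate

namespace Cfsg.Agent.ModRep

open Cfsg Cfsg.Agent.Blocks Cfsg.Agent.BrauerPairs Cfsg.Agent.SecondMain

/-- The trace of a permutation on the image of a commuting idempotent, diagonal modulo the maximal
ideal, is a natural number. -/
theorem trace_perm_idem {R k : Type*} [CommRing R] [Field k] (h : R →+* k)
    (hu : ∀ x, h x ≠ 0 → IsUnit x) {n : Type*} [Fintype n] [DecidableEq n] (σ π : Equiv.Perm n)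
    (Φ P : Matrix n n R) (d : n → k) (hd : ∀ j, d j = 0 ∨ d j = 1)
    (hΦ : (Φ.map h).det ≠ 0) (hP : P * P = P) (hπΦ : ∀ i j, Φ (π i) j = Φ i (σ j))
    (hPπ : ∀ i l, P (π i) (π l) = P i l)
    (hres : (P * Φ).map h = Φ.map h * Matrix.diagonal d) :
    ∃ m : ℕ, ∑ i, P (π i) i = (m : R) := by
  classical
  have hmap : ∀ X Y : Matrix n n R, (X * Y).map h = X.map h * Y.map h := fun X Y =>
    Matrix.map_mul (L := X) (M := Y) (f := h)
  have hunit : IsUnit Φ.det := hu _ (by rwa [← RingHom.mapMatrix_apply, ← RingHom.map_det] at hΦ)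
  set A : Matrix n n R := (1 : Matrix n n R).submatrix π id with hA
  set B : Matrix n n R := (1 : Matrix n n R).submatrix id σ with hB
  have hAmul : ∀ (X : Matrix n n R) i j, (A * X) i j = X (π i) j := fun X i j => by
    simp [hA, Matrix.mul_apply, Matrix.one_apply]
  have hmulB : ∀ (X : Matrix n n R) i j, (X * B) i j = X i (σ j) := fun X i j => by
    simp [hB, Matrix.mul_apply, Matrix.one_apply]
  have hmulA : ∀ (X : Matrix n n R) i j, (X * A) i j = X i (π.symm j) := fun X i j => by
    rw [Matrix.mul_apply, Finset.sum_eq_single (π.symm j)]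
    · simp [hA, Matrix.one_apply]
    · intro l _ hl
      have : π l ≠ j := fun e => hl (by rw [← e, Equiv.symm_apply_apply])
      simp [hA, Matrix.one_apply, this]
    · simp
  have hAΦ : A * Φ = Φ * B := by
    ext i j
    rw [hAmul, hmulB, hπΦ]
  have hAP : A * P = P * A := by
    ext i j
    rw [hAmul, hmulA]
    conv_rhs => rw [← hPπ i (π.symm j), Equiv.apply_symm_apply]
  set Q : Matrix n n R := Φ⁻¹ * P * Φ with hQ
  have h1 : Φ * Φ⁻¹ = 1 := Matrix.mul_nonsing_inv Φ hunit
  have h2 : Φ⁻¹ * Φ = 1 := Matrix.nonsing_inv_mul Φ hunit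
  have hQQ : Q * Q = Q := by
    calc Q * Q = Φ⁻¹ * P * (Φ * Φ⁻¹) * P * Φ := by simp only [hQ, Matrix.mul_assoc]
      _ = Φ⁻¹ * (P * P) * Φ := by rw [h1, Matrix.mul_one]; simp only [Matrix.mul_assoc]
      _ = Q := by rw [hP]
  have hBeq : B = Φ⁻¹ * (A * Φ) := by rw [hAΦ, ← Matrix.mul_assoc, h2, Matrix.one_mul]
  have hBQ : B * Q = Q * B := by
    calc B * Q = Φ⁻¹ * A * (Φ * Φ⁻¹) * P * Φ := by rw [hBeq, hQ]; simp only [Matrix.mul_assoc]
      _ = Φ⁻¹ * (A * P) * Φ := by rw [h1, Matrix.mul_one]; simp only [Matrix.mul_assoc]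
      _ = Φ⁻¹ * P * (Φ * Φ⁻¹) * A * Φ := by rw [hAP, h1, Matrix.mul_one]; simp only [Matrix.mul_assoc]
      _ = Q * B := by rw [hBeq, hQ]; simp only [Matrix.mul_assoc]
  have hQres : Q.map h = Matrix.diagonal d := by
    rw [hQ, Matrix.mul_assoc, hmap, hres, ← Matrix.mul_assoc, ← hmap, h2]
    simp
  let d' : n → R := fun j => if d j = 1 then 1 else 0
  have hd'h : ∀ j, h (d' j) = d j := fun j => by
    rcases hd j with e | e <;> simp [d', e]
  have hσ : ∀ j, d (σ j) = d j := fun j => by
    have e := congrArg (fun X : Matrix n n R => (X.map h) (σ j) j) hBQ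
    simp only [hmap, hQres, Matrix.mul_diagonal, Matrix.diagonal_mul] at e
    have e1 : B.map h (σ j) j = 1 := by simp [hB, Matrix.one_apply]
    rw [e1, one_mul, mul_one] at e
    exact e.symm
  set D : Matrix n n R := Matrix.diagonal d' with hD
  have hDD : D * D = D := by
    rw [hD, Matrix.diagonal_mul_diagonal]
    congr 1
    funext j
    simp only [d']
    split_ifs <;> simp
  have hBD : B * D = D * B := by
    ext i j
    rw [Matrix.mul_diagonal, Matrix.diagonal_mul]
    simp only [hB, Matrix.submatrix_apply, id, Matrix.one_apply]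
    by_cases hij : i = σ j
    · subst hij; simp [d', hσ]
    · simp [hij]
  set U : Matrix n n R := Q * D + (1 - Q) * (1 - D) with hU
  have hDres : D.map h = Matrix.diagonal d := by
    rw [hD, Matrix.diagonal_map (map_zero h)]
    exact congrArg Matrix.diagonal (funext hd'h)
  have hUres : U.map h = 1 := by
    rw [← RingHom.mapMatrix_apply, hU]
    simp only [map_add, map_mul, map_sub, map_one, RingHom.mapMatrix_apply, hQres, hDres]
    have e : Matrix.diagonal d * Matrix.diagonal d = Matrix.diagonal d := by
      rw [Matrix.diagonal_mul_diagonal]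
      congr 1
      funext j
      rcases hd j with e | e <;> rw [e] <;> simp
    simp only [mul_sub, sub_mul, one_mul, mul_one, e]
    abel
  have hUunit : IsUnit U.det := hu _ (by
    rw [RingHom.map_det, RingHom.mapMatrix_apply, hUres, Matrix.det_one]
    exact one_ne_zero)
  have hQU : Q * U = U * D := by
    rw [hU]
    simp only [mul_add, add_mul, mul_sub, sub_mul, one_mul, mul_one, ← mul_assoc, hQQ]
    simp only [mul_assoc, hDD]
    abel
  have hBU : B * U = U * B := by
    have e1 : Commute B Q := hBQ
    have e2 : Commute B D := hBD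
    exact (e1.mul_right e2).add_right
      (((Commute.one_right B).sub_right e1).mul_right ((Commute.one_right B).sub_right e2))
  refine ⟨(Finset.univ.filter fun j => σ j = j ∧ d j = 1).card, ?_⟩
  calc ∑ i, P (π i) i = (A * P).trace := by simp [Matrix.trace, hAmul]
    _ = (A * P * (Φ * Φ⁻¹)).trace := by rw [h1, Matrix.mul_one]
    _ = (Φ⁻¹ * (A * P * Φ)).trace := by rw [← Matrix.mul_assoc, Matrix.trace_mul_comm]
    _ = (B * Q).trace := by
        rw [hBeq, hQ]
        congr 1
        calc Φ⁻¹ * (A * P * Φ) = Φ⁻¹ * A * (Φ * Φ⁻¹) * P * Φ := by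
              rw [h1, Matrix.mul_one]; simp only [Matrix.mul_assoc]
          _ = _ := by simp only [Matrix.mul_assoc]
    _ = (B * (Q * U * U⁻¹)).trace := by
        rw [Matrix.mul_assoc Q, Matrix.mul_nonsing_inv U hUunit, Matrix.mul_one]
    _ = (U * (B * D) * U⁻¹).trace := by rw [hQU]; simp only [← Matrix.mul_assoc, hBU]
    _ = (B * D).trace := by
        rw [Matrix.trace_mul_cycle, Matrix.nonsing_inv_mul U hUunit, Matrix.one_mul]
    _ = _ := by
        rw [Matrix.trace, Finset.card_filter, Nat.cast_sum]
        refine Finset.sum_congr rfl fun j _ => ?_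
        rw [Matrix.diag_apply, Matrix.mul_diagonal]
        simp only [hB, Matrix.submatrix_apply, id, Matrix.one_apply, d']
        by_cases e1 : σ j = j <;> by_cases e2 : d j = 1 <;> simp [e1, e2, eq_comm (a := j)]

variable {G : Type*} [Group G] {p : ℕ} {M : Ideal AlgInt}

/-- The reduction on the local ring, a ring homomorphism. -/
noncomputable def resHom (hM : IsPModular p M) : locRing hM →+* Res M where
  toFun x := res M (x : ℂ)
  map_one' := res_one hM
  map_mul' x y := res_mul hM x.2 y.2
  map_zero' := res_zero hM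
  map_add' x y := res_add hM x.2 y.2

theorem resHom_apply (hM : IsPModular p M) (x : locRing hM) : resHom hM x = res M (x : ℂ) := rfl

theorem isUnit_of_resHom (hM : IsPModular p M) (x : locRing hM) (h : resHom hM x ≠ 0) : IsUnit x := by
  have hni : ¬ MemLocalIdeal M (x : ℂ) := fun hi => h ((res_eq_zero_iff hM x.2).mpr hi)
  have hne : (x : ℂ) ≠ 0 := fun h0 => hni (h0 ▸ memI_zero hM)
  refine IsUnit.of_mul_eq_one (⟨(x : ℂ)⁻¹, memR_inv hM x.2 hni⟩ : locRing hM) ?_
  exact Subtype.ext (mul_inv_cancel₀ hne)

variable [Fintype G] [Fact p.Prime]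

/-- An automorphism preserving the column sums of an integral set of characters has a natural number
as trace on the corresponding part of the functions on the regular classes. -/
theorem colSum_fixed_nat (hM : IsPModular p M) {V : Set (IrrCharacter G)}
    (hV : blockInd V ∈ intRing hM) (α : G ≃* G)
    (hinv : ∀ y z : G, ¬ p ∣ orderOf y → ¬ p ∣ orderOf z →
      colSum V (α y) (α z) = colSum V y z) :
    ∃ m : ℕ, (Nat.card G : ℂ)⁻¹ *
      ∑ y ∈ Finset.univ.filter (fun y : G => ¬ p ∣ orderOf y), colSum V (α y) y = m := by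
  classical
  letI := resField hM
  haveI := isAlgClosed_res hM
  haveI := res_charP hM
  have := Fintype.ofFinite (IrrCharacter G)
  have := Fintype.ofFinite (RegClass p G)
  -- the idempotent and the kernel
  have haR : ∀ g, MemLocalRing M (blockCoeff V g) := fun g => blockCoeff_eq_ofOmega V ▸ hV g
  have hKcls : ∀ y z c : G, colSum V (c * y * c⁻¹) z = colSum V y z := fun y z c => by
    simp only [colSum, irr_class _ y c]
  have hKcls' : ∀ y z c : G, colSum V y (c * z * c⁻¹) = colSum V y z := fun y z c => by
    simp only [colSum, irr_class _ z c]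
  have hKl : ∀ {y y' : G} (z : G), IsConj y y' → colSum V y z = colSum V y' z := fun z h => by
    obtain ⟨c, rfl⟩ := isConj_iff.mp h
    exact (hKcls _ z c).symm
  have hKr : ∀ {z z' : G} (y : G), IsConj z z' → colSum V y z = colSum V y z' := fun y h => by
    obtain ⟨c, rfl⟩ := isConj_iff.mp h
    exact (hKcls' y _ c).symm
  have hK0 : ∀ {y m : G}, ¬ p ∣ orderOf y → p ∣ orderOf m → colSum V y m = 0 :=
    fun hy hm => weak_orth hM hV hy hm
  set T := Finset.univ.filter (fun y : G => ¬ p ∣ orderOf y) with hT
  choose cls hcls using fun (y : G) (hy : ¬ p ∣ orderOf y) => RegClass.exists_rep (p := p) hy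
  -- the indicator of a regular section
  let F : RegClass p G → G → ℂ := fun l g =>
    if ∃ u y, u * y = g ∧ Commute u y ∧ (∃ n, orderOf u = p ^ n) ∧ ¬ p ∣ orderOf y ∧
      IsConj y l.rep then 1 else 0
  have hFparts : ∀ (l : RegClass p G) {u y : G}, Commute u y → (∃ n, orderOf u = p ^ n) →
      ¬ p ∣ orderOf y → F l (u * y) = if IsConj y l.rep then 1 else 0 := by
    intro l u y hc hu hy
    simp only [F]
    congr 1
    refine propext ⟨?_, fun h => ⟨u, y, rfl, hc, hu, hy, h⟩⟩
    rintro ⟨u', y', he, hc', hu', hy', hcj⟩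
    rwa [← (pPart_unique hu' hu hy' hy hc' hc he).2]
  have hFreg : ∀ (l : RegClass p G) {y : G}, ¬ p ∣ orderOf y →
      F l y = if IsConj y l.rep then 1 else 0 := fun l y hy => by
    simpa using hFparts l (Commute.one_left y) ⟨0, by simp⟩ hy
  have hFclass : ∀ l, IsClassFunction G (F l) := by
    intro l g c
    simp only [F]
    congr 1
    refine propext ⟨?_, ?_⟩
    · rintro ⟨u, y, he, hc, hu, hy, hcj⟩
      refine ⟨c⁻¹ * u * c, c⁻¹ * y * c, ?_, ?_, ?_, ?_, (isConj_iff.mpr ⟨c, by group⟩).trans hcj⟩
      · rw [show c⁻¹ * u * c * (c⁻¹ * y * c) = c⁻¹ * (u * y) * c by group, he]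
        group
      · simpa using hc.map (MulAut.conj c⁻¹).toMonoidHom
      · have := SecondMain.orderOf_conj c⁻¹ u
        rw [inv_inv] at this
        rwa [this]
      · have := SecondMain.orderOf_conj c⁻¹ y
        rw [inv_inv] at this
        rwa [this]
    · rintro ⟨u, y, he, hc, hu, hy, hcj⟩
      refine ⟨c * u * c⁻¹, c * y * c⁻¹, ?_, ?_, ?_, ?_, (isConj_iff.mpr ⟨c⁻¹, by group⟩).trans hcj⟩
      · rw [show c * u * c⁻¹ * (c * y * c⁻¹) = c * (u * y) * c⁻¹ by group, he]
      · exact hc.map (MulAut.conj c).toMonoidHom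
      · rwa [SecondMain.orderOf_conj]
      · rwa [SecondMain.orderOf_conj]
  have hFR : ∀ l g, MemLocalRing M (F l g) := fun l g => by
    simp only [F]; split_ifs
    · exact memR_one hM
    · exact memR_zero hM
  let P : Matrix (RegClass p G) (RegClass p G) (locRing hM) := fun i l =>
    ⟨∑ w, blockCoeff V w * F l (w * i.rep), memR_sum hM _ fun w _ => memR_mul hM (haR w) (hFR l _)⟩
  -- the kernel expression of `P`
  have hshift : ∀ (χ : IrrCharacter G) (y : G), ∑ w, blockCoeff V w * (χ : G → ℂ) (w * y) =
      blockInd V χ * (χ : G → ℂ) y := by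
    intro χ y
    obtain ⟨n, ρ, hirr, hρ⟩ := χ.2
    have h := congrArg (fun X => LinearMap.trace ℂ (Fin n → ℂ) (X * ρ y))
      (Char.groupSumOp_eq_smul ρ (Blocks.isClassFunction_blockCoeff V))
    simp only [Char.groupSumOp, Finset.sum_mul, smul_mul_assoc, ← map_mul, map_sum, map_smul,
      smul_eq_mul] at h
    rw [← hρ]
    refine Eq.trans h ?_
    congr 1
    · rw [← omega_ofOmega (blockInd V) χ, ← blockCoeff_eq_ofOmega, omega_eq_sum, ← hρ,
        Representation.char_one]
  have hPval : ∀ i l : RegClass p G, ((P i l : locRing hM) : ℂ) = (Nat.card G : ℂ)⁻¹ *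
      ∑ m ∈ T, (if IsConj m l.rep then 1 else 0) * colSum V i.rep m := by
    intro i l
    show ∑ w, blockCoeff V w * F l (w * i.rep) = _
    have e1 : ∀ g, F l g = ∑ χ : IrrCharacter G, classInner (F l) (χ : G → ℂ) * (χ : G → ℂ) g :=
      fun g => by
        conv_lhs => rw [Char.classFunction_eq_sum (hFclass l), Finset.sum_apply]
        rfl
    rw [Finset.sum_congr rfl fun w _ => by rw [e1 (w * i.rep), Finset.mul_sum], Finset.sum_comm]
    have e2 : ∀ χ : IrrCharacter G, ∑ w, blockCoeff V w *
        (classInner (F l) (χ : G → ℂ) * (χ : G → ℂ) (w * i.rep)) =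
        classInner (F l) (χ : G → ℂ) * (blockInd V χ * (χ : G → ℂ) i.rep) := fun χ => by
      rw [← hshift χ i.rep, Finset.mul_sum]
      exact Finset.sum_congr rfl fun w _ => by ring
    rw [Finset.sum_congr rfl fun χ _ => e2 χ]
    have e3 : blockPart V (F l) i.rep =
        ∑ χ : IrrCharacter G, classInner (F l) (χ : G → ℂ) * (blockInd V χ * (χ : G → ℂ) i.rep) := by
      rw [blockPart_apply, finsum_mem_eq_toFinset_sum]
      refine Eq.trans ?_ (Finset.sum_subset (Finset.subset_univ V.toFinset) fun χ _ hχ => ?_)
      · exact Finset.sum_congr rfl fun χ hχ => by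
          rw [blockInd_of_mem (Set.mem_toFinset.mp hχ), one_mul]
      · rw [blockInd_of_notMem fun h => hχ (Set.mem_toFinset.mpr h), zero_mul, mul_zero]
    rw [← e3, colSum_eq_sum_classInner]
    congr 1
    refine Eq.trans ?_ (Finset.sum_congr rfl fun m hm => show F l m * colSum V i.rep m = _ by rw [hFreg l (Finset.mem_filter.mp hm).2])
    refine (Finset.sum_subset (Finset.subset_univ T) fun m _ hm => ?_).symm
    rw [hK0 i.rep_regular (by simpa [hT] using hm), mul_zero]
  -- regular class sums
  have hfib : ∀ (u : G → ℂ), ∑ l : RegClass p G, ∑ m ∈ T, (if IsConj m l.rep then u m else 0) =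
      ∑ m ∈ T, u m := by
    intro u
    rw [Finset.sum_comm]
    refine Finset.sum_congr rfl fun m hm => ?_
    rw [Finset.sum_eq_single (cls m (Finset.mem_filter.mp hm).2)]
    · rw [if_pos (hcls m _)]
    · intro l _ hl
      rw [if_neg fun h => hl (RegClass.ext_of_isConj (h.symm.trans (hcls m _)))]
    · simp
  -- the permutations
  let π₀ : RegClass p G → RegClass p G := fun i =>
    cls (α i.rep) (by rw [MulEquiv.orderOf_eq]; exact i.rep_regular)
  have hπ₀ : ∀ i, IsConj (α i.rep) (π₀ i).rep := fun i => hcls _ _
  have hπinj : Function.Injective π₀ := fun a b h => RegClass.ext_of_isConj (by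
    have h' := (hπ₀ a).trans (h ▸ (hπ₀ b).symm)
    have := α.symm.toMonoidHom.map_isConj h'
    simpa using this)
  let π : Equiv.Perm (RegClass p G) :=
    Equiv.ofBijective π₀ ⟨hπinj, Finite.surjective_of_injective hπinj⟩
  obtain ⟨b, hb⟩ := exists_basis (k := Res M) (p := p) (G := G)
  let e : RegClass p G ≃ simpleTraces (Res M) G :=
    (Pi.basisFun (Res M) (RegClass p G)).indexEquiv b
  let f : RegClass p G → G → Res M := fun j => (e j : G → Res M)
  have hf : ∀ j, f j ∈ simpleTraces (Res M) G := fun j => (e j).2
  let σ₀ : RegClass p G → RegClass p G := fun j => e.symm ⟨fun g => f j (α g), simpleTraces_comp (hf j) α⟩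
  have hσ₀ : ∀ j, f (σ₀ j) = fun g => f j (α g) := fun j => by simp [σ₀, f]
  have hσinj : Function.Injective σ₀ := fun a c h => by
    refine e.injective (Subtype.ext (funext fun g => ?_))
    obtain ⟨g, rfl⟩ := α.surjective g
    exact (congrFun (hσ₀ a) g).symm.trans ((congrArg (fun j => f j g) h).trans (congrFun (hσ₀ c) g))
  let σ : Equiv.Perm (RegClass p G) :=
    Equiv.ofBijective σ₀ ⟨hσinj, Finite.surjective_of_injective hσinj⟩
  let Φ : Matrix (RegClass p G) (RegClass p G) (locRing hM) := fun i j =>
    ⟨unres (f j i.rep), memR_unres hM _⟩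
  have hΦres : ∀ i j, resHom hM (Φ i j) = f j i.rep := fun i j => res_unres hM _
  -- the scalar by which the idempotent acts on each simple module
  have hδ : ∀ j, ∃ δ : Res M, (δ = 0 ∨ δ = 1) ∧
      ∀ y, ∑ w, res M (blockCoeff V w) * f j (w * y) = δ * f j y := by
    intro j
    obtain ⟨n, ρ, hirr, hft⟩ := hf j
    let E : Module.End (Res M) (Fin n → Res M) := ∑ w, res M (blockCoeff V w) • ρ w
    have hcomm : ∀ g v, E (ρ g v) = ρ g (E v) := by
      intro g v
      suffices h : E * ρ g = ρ g * E from LinearMap.congr_fun h v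
      simp only [E, Finset.sum_mul, Finset.mul_sum, smul_mul_assoc, mul_smul_comm, ← map_mul]
      refine Fintype.sum_equiv (MulAut.conj g⁻¹).toEquiv _ _ fun w => ?_
      show _ = res M (blockCoeff V (g⁻¹ * w * g⁻¹⁻¹)) • ρ (g * (g⁻¹ * w * g⁻¹⁻¹))
      rw [Blocks.isClassFunction_blockCoeff V w g⁻¹]
      congr 2
      group
    obtain ⟨c, hc⟩ := exists_scalar ρ E hcomm
    have hEE : E * E = E := by
      have hconv : conv (blockCoeff V) (blockCoeff V) = blockCoeff V := by
        rw [blockCoeff_eq_ofOmega, ← ofOmega_mul, blockInd_mul_self]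
      conv_rhs => rw [show E = ∑ w, res M (blockCoeff V w) • ρ w from rfl,
        Finset.sum_congr rfl fun w _ => by rw [← congrFun hconv w, conv_eq_sum,
          res_sum hM _ fun x _ => memR_mul hM (haR x) (haR _),
          Finset.sum_congr rfl fun x _ => res_mul hM (haR x) (haR _), Finset.sum_smul],
        Finset.sum_comm]
      simp only [E, Finset.sum_mul]
      refine Finset.sum_congr rfl fun x _ => ?_
      rw [Finset.mul_sum]
      refine Fintype.sum_equiv (Equiv.mulLeft x) _ _ fun y => ?_
      rw [Equiv.coe_mulLeft, inv_mul_cancel_left, map_mul, smul_mul_smul_comm]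
    have hcc : ∀ v, (c * c) • v = c • v := fun v => by
      calc (c * c) • v = c • c • v := mul_smul c c v
        _ = E (E v) := by rw [hc, hc]
        _ = c • v := by rw [← Module.End.mul_apply, hEE, hc]
    haveI := hirr
    obtain ⟨v, hv⟩ : ∃ v : Fin n → Res M, v ≠ 0 := by
      obtain ⟨a, a', haa⟩ := (IsSimpleModule.nontrivial (MonoidAlgebra (Res M) G) ρ.asModule).exists_pair_ne
      by_contra h0
      push Not at h0
      exact haa ((h0 a).trans (h0 a').symm)
    have h01 : c = 0 ∨ c = 1 := by
      have h' : c * c = c := smul_left_injective (Res M) hv (hcc v)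
      rcases eq_or_ne c 0 with h0 | h0
      · exact Or.inl h0
      · exact Or.inr (mul_left_cancel₀ h0 (by rw [h', mul_one]))
    refine ⟨c, h01, fun y => ?_⟩
    have h' : E * ρ y = c • ρ y := LinearMap.ext fun v => hc (ρ y v)
    have h'' := congrArg (LinearMap.trace (Res M) (Fin n → Res M)) h'
    simp only [E, Finset.sum_mul, smul_mul_assoc, ← map_mul, map_sum, map_smul, smul_eq_mul] at h''
    simp only [hft]
    exact h''
  choose δ hδ01 hδ using hδ
  obtain ⟨m, hm⟩ := trace_perm_idem (resHom hM) (isUnit_of_resHom hM) σ π Φ P δ hδ01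
    (by
      rw [show Φ.map (resHom hM) = Matrix.of fun i j => f j (RegClass.rep i) from Matrix.ext hΦres]
      have hli : LinearIndependent (Res M)
          (Matrix.of fun (i : RegClass p G) (j : RegClass p G) => f j i.rep).col := by
        convert b.linearIndependent.comp e e.injective using 1
        all_goals first
          | rfl
          | (funext j i; exact (hb (e j) i).symm)
      exact ((Matrix.isUnit_iff_isUnit_det _).mp
        (Matrix.linearIndependent_cols_iff_isUnit.mp hli)).ne_zero)
    (by
      refine Matrix.ext fun i j => Subtype.ext ?_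
      rw [Matrix.mul_apply]
      push_cast
      simp only [hPval]
      calc ∑ l : RegClass p G, (Nat.card G : ℂ)⁻¹ * (∑ m ∈ T, (if IsConj m l.rep then 1 else 0) *
            colSum V i.rep m) * ((Nat.card G : ℂ)⁻¹ *
            ∑ m' ∈ T, (if IsConj m' j.rep then 1 else 0) * colSum V l.rep m')
          = ∑ l : RegClass p G, ∑ m ∈ T, (if IsConj m l.rep then
              (Nat.card G : ℂ)⁻¹ * colSum V i.rep m * ((Nat.card G : ℂ)⁻¹ *
                ∑ m' ∈ T, (if IsConj m' j.rep then 1 else 0) * colSum V m m') else 0) := by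
            refine Finset.sum_congr rfl fun l _ => ?_
            rw [Finset.mul_sum, Finset.sum_mul]
            refine Finset.sum_congr rfl fun m _ => ?_
            by_cases h : IsConj m l.rep
            · simp only [if_pos h, one_mul, hKl _ h]
            · simp only [if_neg h, zero_mul, mul_zero]
        _ = ∑ m' ∈ T, (Nat.card G : ℂ)⁻¹ * ((if IsConj m' j.rep then 1 else 0) *
              ((Nat.card G : ℂ)⁻¹ * ∑ m ∈ T, colSum V i.rep m * colSum V m m')) := by
            rw [hfib]
            simp only [Finset.mul_sum]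
            rw [Finset.sum_comm]
            exact Finset.sum_congr rfl fun m' _ => Finset.sum_congr rfl fun m _ => by ring
        _ = _ := by
            rw [← Finset.mul_sum]
            congr 1
            refine Finset.sum_congr rfl fun m' hm' => ?_
            congr 1
            -- row orthogonality on the regular elements
            rw [Finset.sum_subset (Finset.subset_univ T) fun m _ hm => by
              rw [hK0 i.rep_regular (by simpa [hT] using hm), zero_mul]]
            simp only [colSum, finsum_mem_eq_toFinset_sum, Finset.sum_mul, Finset.mul_sum]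
            rw [Finset.sum_comm]
            refine Finset.sum_congr rfl fun ψ hψ => ?_
            rw [Finset.sum_comm, Finset.sum_eq_single ψ]
            · have h1 := Char.classInner_irr_self ψ.2
              rw [classInner, inv_mul_eq_one₀ card_ne_zero_C] at h1
              rw [← Finset.mul_sum, Finset.sum_congr rfl (g := fun m => (ψ : G → ℂ) i.rep *
                conj ((ψ : G → ℂ) m') * ((ψ : G → ℂ) m * conj ((ψ : G → ℂ) m)))
                fun m _ => by ring, ← Finset.mul_sum, ← h1]
              field_simp [card_ne_zero_C]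
            · intro φ _ hne
              have h1 : ∑ g, (ψ : G → ℂ) g * conj ((φ : G → ℂ) g) = 0 := by
                have := Char.classInner_irr_of_ne ψ.2 φ.2 fun h => hne (Subtype.ext h).symm
                rw [classInner, mul_eq_zero] at this
                exact this.resolve_left (inv_ne_zero card_ne_zero_C)
              rw [← Finset.mul_sum, Finset.sum_congr rfl (g := fun m => (φ : G → ℂ) i.rep *
                conj ((ψ : G → ℂ) m') * ((ψ : G → ℂ) m * conj ((φ : G → ℂ) m)))
                fun m _ => by ring, ← Finset.mul_sum, h1, mul_zero, mul_zero]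
            · exact fun h => absurd hψ h)
    (fun i j => Subtype.ext (congrArg unres (by
      show f j (π₀ i).rep = f (σ₀ j) i.rep
      rw [congrFun (hσ₀ j) i.rep]
      obtain ⟨c, hc⟩ := isConj_iff.mp (hπ₀ i)
      rw [← hc, simpleTraces_class (hf j)])))
    (fun i l => Subtype.ext (by
      rw [hPval, hPval]
      congr 1
      refine (Finset.sum_equiv α.toEquiv ?_ fun m hm => ?_).symm
      · intro m
        simp [hT, MulEquiv.orderOf_eq]
      · show _ = (if IsConj (α m) (π₀ l).rep then 1 else 0) * colSum V (π₀ i).rep (α m)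
        have hreg := (Finset.mem_filter.mp hm).2
        congr 1
        · congr 1
          refine propext ⟨fun h => (α.toMonoidHom.map_isConj h).trans (hπ₀ l), fun h => ?_⟩
          have h' := α.symm.toMonoidHom.map_isConj (h.trans (hπ₀ l).symm)
          simpa using h'
        · show _ = colSum V (π₀ i).rep (α m)
          rw [← hKl _ (hπ₀ i), hinv _ _ i.rep_regular hreg]))
    (by
      refine Matrix.ext fun i j => ?_
      rw [Matrix.map_apply, Matrix.mul_diagonal, Matrix.map_apply, hΦres, mul_comm, ← hδ j i.rep,
        Matrix.mul_apply, map_sum]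
      have hsum : ∀ w, ∑ l, res M (F l (w * i.rep)) * f j l.rep = f j (w * i.rep) := by
        intro w
        obtain ⟨u, y, he, hu, hy, hk, hco⟩ := Transfer.exists_pPart_mul (p := p) (w * i.rep)
        have hc : Commute u y := by
          obtain ⟨a, ha⟩ := Subgroup.mem_zpowers_iff.mp hu
          obtain ⟨c, hc⟩ := Subgroup.mem_zpowers_iff.mp hy
          have h := (Commute.refl (w * i.rep)).zpow_zpow a c
          rwa [ha, hc] at h
        have hyr : ¬ p ∣ orderOf y := ((Fact.out : p.Prime).coprime_iff_not_dvd).mp hco.symm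
        rw [he, simpleTraces_pPrime (p := p) (hf j) hc hk,
          Finset.sum_eq_single (cls y hyr)]
        · rw [hFparts _ hc hk hyr, if_pos (hcls y hyr), res_one hM, one_mul]
          obtain ⟨a, ha⟩ := isConj_iff.mp (hcls y hyr)
          rw [← ha, simpleTraces_class (hf j)]
        · intro l _ hl
          rw [hFparts _ hc hk hyr,
            if_neg fun h => hl (RegClass.ext_of_isConj (h.symm.trans (hcls y hyr))), res_zero hM,
            zero_mul]
        · simp
      calc ∑ l, resHom hM (P i l * Φ l j)
          = ∑ l, ∑ w, res M (blockCoeff V w) * (res M (F l (w * i.rep)) * f j l.rep) := by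
            refine Finset.sum_congr rfl fun l _ => ?_
            rw [map_mul, hΦres, resHom_apply]
            show res M (∑ w, blockCoeff V w * F l (w * i.rep)) * _ = _
            rw [res_sum hM _ fun w _ => memR_mul hM (haR w) (hFR l _), Finset.sum_mul]
            exact Finset.sum_congr rfl fun w _ => by rw [res_mul hM (haR w) (hFR l _), mul_assoc]
        _ = _ := by
            rw [Finset.sum_comm]
            exact Finset.sum_congr rfl fun w _ => by rw [← Finset.mul_sum, hsum w])
  refine ⟨m, ?_⟩
  have hm' := congrArg (fun z : locRing hM => (z : ℂ)) hm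
  simp only [AddSubmonoidClass.coe_finsetSum, SubringClass.coe_natCast, hPval] at hm'
  rw [← hm', ← Finset.mul_sum]
  congr 1
  rw [← hfib]
  refine Finset.sum_congr rfl fun i _ => Finset.sum_congr rfl fun m hm => ?_
  by_cases h : IsConj m i.rep
  · rw [if_pos h, if_pos h, one_mul]
    exact hKl _ ((α.toMonoidHom.map_isConj h).trans (hπ₀ i))
  · rw [if_neg h, if_neg h, zero_mul]

end Cfsg.Agent.ModRep
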